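import Cfsg.Agent.Lib.L43Three.CaseB.Bridge.Hom
import Cfsg.Agent.Lib.L43Three.CaseB.Main

/-!
S3373, case B: a local configuration whose second root element is conjugate to `z` gives
`PSL(4,3)`.
-/

set_option autoImplicit false
set_option linter.style.haveILetI false
set_option linter.unusedSectionVars false
set_option linter.constructorNameAsVariable false
set_option maxRecDepth 20000
set_option synthInstance.maxSize 2000
set_option maxHeartbeats 1000000

namespace Cfsg.Agent.L43Three

open Subgroup Matrix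
open WreathChar (Z3)
open A3 (tr upper fix1 qel Z0 eA)
open Bridge
open CaseB (S4 z4 code code_injective code_mul code_one code_neg mk4)

namespace Bridge

/-- A transvection of `SL(4,3)` with coefficient one or two. -/
abbrev tv (i j : Fin 4) (h : i ≠ j) (t : K) : S4 := SpecialLinearGroup.transvection h t

theorem z4_eq : tv 0 2 (by decide) 1 * tv 2 3 (by decide) 1 =
    z4 * (tv 2 3 (by decide) 1 * tv 0 2 (by decide) 1) :=
  code_injective (by simp only [code_mul]; decide +kernel)

theorem t13_eq : tv 1 2 (by decide) 1 * tv 2 3 (by decide) 1 =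
    tv 1 3 (by decide) 1 * (tv 2 3 (by decide) 1 * tv 1 2 (by decide) 1) :=
  code_injective (by simp only [code_mul]; decide +kernel)

/-- Conjugators from the representatives to elements in the image of `Q`. -/
def hRep : Fin 4 → CaseB.M4
  | 1 => ⟨⟨.o, .o, .z, .z⟩, ⟨.z, .o, .z, .z⟩, ⟨.z, .z, .o, .d⟩, ⟨.z, .z, .o, .z⟩⟩
  | _ => ⟨⟨.o, .z, .z, .z⟩, ⟨.z, .z, .o, .z⟩, ⟨.z, .d, .o, .z⟩, ⟨.z, .z, .z, .o⟩⟩

theorem det_hRep : ∀ t, (hRep t).det = .o := by decide +kernel

theorem conj_rep_one : mk4 (hRep 1) (det_hRep 1) * mk4 (CaseB.repThree 1) (CaseB.det_repThree 1) =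
    tv 0 1 (by decide) 1 * tv 1 3 (by decide) 1 * mk4 (hRep 1) (det_hRep 1) :=
  code_injective (by simp only [code_mul, CaseB.code_mk4]; decide +kernel)

theorem conj_rep_two : mk4 (hRep 2) (det_hRep 2) * mk4 (CaseB.repThree 2) (CaseB.det_repThree 2) =
    tv 0 1 (by decide) 1 * tv 2 3 (by decide) 2 * mk4 (hRep 2) (det_hRep 2) :=
  code_injective (by simp only [code_mul, CaseB.code_mk4]; decide +kernel)

theorem conj_rep_three : mk4 (hRep 3) (det_hRep 3) * mk4 (CaseB.repThree 3) (CaseB.det_repThree 3) =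
    tv 0 1 (by decide) 1 * tv 2 3 (by decide) 1 * mk4 (hRep 3) (det_hRep 3) :=
  code_injective (by simp only [code_mul, CaseB.code_mk4]; decide +kernel)

theorem center_S4 {c : S4} (h : c ∈ center S4) : c = 1 ∨ c = -1 := by
  obtain ⟨r, hr, e⟩ := Matrix.SpecialLinearGroup.mem_center_iff.1 h
  rw [Fintype.card_fin] at hr
  rcases (by decide : ∀ r : K, r ^ 4 = 1 → r = 1 ∨ r = -1) r hr with rfl | rfl
  · exact Or.inl (Subtype.ext (by rw [← e, map_one]; rfl))
  · exact Or.inr (Subtype.ext (by rw [← e, map_neg, map_one]; rfl))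

theorem neg_one_center : (-1 : S4) ∈ center S4 :=
  Subgroup.mem_center_iff.2 fun x => by rw [mul_neg_one, neg_one_mul]

end Bridge

namespace Loc

variable {G : Type*} [Group G] [Finite G] (L : Loc G)
include L

/-- The group is `PSL(4,3)`. -/
theorem psl_of_pure (hp : IsConj L.z (L.el A3.eA)) :
    Nonempty (G ≃* Matrix.ProjectiveSpecialLinearGroup (Fin 4) (ZMod 3)) := by
  obtain ⟨L₂, A, hc⟩ := L.exists_twisted hp
  obtain ⟨f, hlin, h23⟩ := L.exists_hom L₂ A hc
  have h01 : f (tv 0 1 (by decide) 1) = L.el eA :=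
    (hlin _ 0 1 (by decide) 1 rfl).trans (L.iota_lin (dets .o).1 (toM01 .o) ⟨rfl, rfl, rfl⟩)
  have h02 : f (tv 0 2 (by decide) 1) = L.el (qel .z .o .z .z .z) :=
    (hlin _ 0 2 (by decide) 1 rfl).trans
      (L.iota_lin (qel_det _ _ _ _ _) (toM02 .o) ⟨rfl, rfl, rfl⟩)
  have h12 : f (tv 1 2 (by decide) 1) = L.el r12 :=
    (hlin _ 1 2 (by decide) 1 rfl).trans (L.iota_lin det_fixed.2.1 (toM12 .o) ⟨rfl, rfl, rfl⟩)
  have h23o : f (tv 2 3 (by decide) 1) = L.el (tr .z .z .o) := h23 .o
  have h23d : f (tv 2 3 (by decide) 2) = L.el (tr .z .z .d) := h23 .d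
  have hz : f z4 = L.z := by
    have e := congrArg f z4_eq
    rw [map_mul, map_mul, map_mul, h02, h23o, ← L.el_mul (qel_det _ _ _ _ _) (det_tr _ _ _),
      show qel .z .o .z .z .z * tr .z .z .o = Z0 * (tr .z .z .o * qel .z .o .z .z .z) by decide +kernel,
      L.el_mul rfl (A3.det_mul (det_tr _ _ _) (qel_det _ _ _ _ _)),
      L.el_mul (det_tr _ _ _) (qel_det _ _ _ _ _), L.el_Z0] at e
    exact (mul_right_cancel e).symm
  have h13 : f (tv 1 3 (by decide) 1) = L.el (tr .z .o .z) := by
    have e := congrArg f t13_eq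
    rw [map_mul, map_mul, map_mul, h12, h23o, ← L.el_mul det_fixed.2.1 (det_tr _ _ _),
      show r12 * tr .z .z .o = tr .z .o .z * (tr .z .z .o * r12) by decide +kernel,
      L.el_mul (det_tr _ _ _) (A3.det_mul (det_tr _ _ _) det_fixed.2.1),
      L.el_mul (det_tr _ _ _) det_fixed.2.1] at e
    exact (mul_right_cancel e).symm
  -- the affine normaliser lies in the image
  have hlinR : ∀ B : SL₃, L.iota (lin B) ∈ f.range := by
    suffices h : (⊤ : Subgroup SL₃) ≤ f.range.comap L.psiOne from fun B => h (mem_top B)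
    rw [← ClassicalSL.closure_elemTransvections, closure_le]
    rintro _ ⟨i, j, h, c, rfl⟩
    exact ⟨_, hlin _ i j h c rfl⟩
  have hzR : L.z ∈ f.range := ⟨z4, hz⟩
  have htrR : ∀ v, L.iota (trans v) ∈ f.range := by
    intro v
    by_cases hv : v = 1
    · rw [hv, map_one, map_one]; exact one_mem _
    obtain ⟨n, hn⟩ := L.trans_pure v hv
    obtain ⟨u, B, rfl⟩ : ∃ u B, trans u * lin B = n :=
      ⟨n.left, n.right, SemidirectProduct.inl_left_mul_inr_right n⟩
    have hin : L.iota (lin B) * L.z * (L.iota (lin B))⁻¹ = L.iota (trans (act B (e 0))) := by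
      rw [← L.z_eq, ← map_inv, ← map_mul, ← map_mul, ← map_inv lin, ← SemidirectProduct.inl_aut]
    have e1 : L.iota (trans v) = L.iota (lin B) * L.z * (L.iota (lin B))⁻¹ := by
      rw [← hn, map_mul, hin]
      calc L.iota (trans u) * L.iota (lin B) * L.z * (L.iota (trans u) * L.iota (lin B))⁻¹
          = L.iota (trans u) * (L.iota (lin B) * L.z * (L.iota (lin B))⁻¹) * (L.iota (trans u))⁻¹ := by
            group
        _ = L.iota (trans (act B (e 0))) := by
            rw [hin, ← map_mul, ← map_inv, ← map_mul, ← map_mul trans, ← map_inv trans,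
              ← map_mul trans, mul_inv_cancel_comm]
    rw [e1]
    exact mul_mem (mul_mem (hlinR B) hzR) (inv_mem (hlinR B))
  have hiota : L.iota.range ≤ f.range := by
    rintro _ ⟨a, rfl⟩
    rw [← SemidirectProduct.inl_left_mul_inr_right a, map_mul]
    exact mul_mem (htrR _) (hlinR _)
  -- the kernel
  have hm1 : f (-1) = 1 := by
    have hcomm : ∀ q ∈ L.Q, f (-1) * q = q * f (-1) := by
      intro q hq
      obtain ⟨x, rfl⟩ := hiota (L.cz_le (L.Q_le hq))
      rw [← map_mul, ← map_mul, mul_neg_one, neg_one_mul]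
    have h2 : f (-1) * f (-1) = 1 := by
      rw [← map_mul, show (-1 : S4) * -1 = 1 from code_injective (by
        rw [code_mul, code_neg, code_one]; decide +kernel), map_one]
    have hne : L.z * L.z ≠ 1 := fun h => L.z_ne (by
      have h3 := L.toConf.z3
      rwa [pow_three, h, mul_one] at h3)
    rcases L.z_cases (L.center_Q _ (L.cent_Q _ hcomm) hcomm) with e | e | e
    · exact e
    · exact absurd (by rwa [e] at h2) hne
    · exact absurd (inv_eq_one.1 (by rwa [e, ← _root_.mul_inv_rev] at h2)) hne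
  have hker : ∀ x, f x = 1 ↔ x = 1 ∨ x = -1 := by
    intro x
    refine ⟨fun hx => center_S4 ?_, ?_⟩
    · haveI := ClassicalSL.isSimpleGroup_psl (ι := Fin 4) (F := K) (by simp)
      rcases ((inferInstance : f.ker.Normal).map (QuotientGroup.mk' (center S4))
        (QuotientGroup.mk'_surjective _)).eq_bot_or_eq_top with h | h
      · rw [Subgroup.map_eq_bot_iff, QuotientGroup.ker_mk'] at h
        exact h hx
      · exfalso
        obtain ⟨k, hk, hkz⟩ := (h ▸ mem_top (QuotientGroup.mk' (center S4) z4) :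
          QuotientGroup.mk' (center S4) z4 ∈ f.ker.map (QuotientGroup.mk' (center S4)))
        have hc' : k⁻¹ * z4 ∈ center S4 := QuotientGroup.eq.1 hkz
        refine L.z_ne ?_
        rw [← hz]
        have e : f (k⁻¹ * z4) = f z4 := by
          rw [map_mul, map_inv, MonoidHom.mem_ker.1 hk, inv_one, one_mul]
        rw [← e]
        rcases center_S4 hc' with e' | e' <;> rw [e']
        · exact map_one f
        · exact hm1
    · rintro (rfl | rfl)
      · exact map_one f
      · exact hm1
  have hC : centralizer ({f z4} : Set G) ≤ f.range := by rw [hz]; exact L.cz_le.trans hiota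
  -- fusion of transvections
  have notPure : ∀ (m : S4) (b c x y w : Z3), f m = L.el (qel b c x y w) →
      ¬ ((b = .z ∧ c = .z) ∨ (y = .z ∧ w = .z)) → ¬ IsConj L.z (f m) :=
    fun m b c x y w e hne h => hne (L.pure_qel (e ▸ h : L.Pure (L.el (qel b c x y w))))
  have m1 : f (tv 0 1 (by decide) 1 * tv 1 3 (by decide) 1) = L.el (qel .o .z .o .o .z) := by
    rw [map_mul, h01, h13, ← L.el_mul rfl (det_tr _ _ _)]
    exact congrArg L.el (by decide +kernel)
  have m2 : f (tv 0 1 (by decide) 1 * tv 2 3 (by decide) 2) = L.el (qel .o .z .z .z .d) := by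
    rw [map_mul, h01, h23d, ← L.el_mul rfl (det_tr _ _ _)]
    exact congrArg L.el (by decide +kernel)
  have m3 : f (tv 0 1 (by decide) 1 * tv 2 3 (by decide) 1) = L.el (qel .o .z .z .z .o) := by
    rw [map_mul, h01, h23o, ← L.el_mul rfl (det_tr _ _ _)]
    exact congrArg L.el (by decide +kernel)
  have hfus : ∀ x, x ^ 3 = 1 → IsConj (f z4) (f x) → ∃ h, h * z4 * h⁻¹ = x := by
    intro x hx3 hx
    rw [hz] at hx
    have hx1 : x ≠ 1 := fun e => by
      rw [e, map_one, isConj_one_left] at hx
      exact L.z_ne hx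
    obtain ⟨a, t, ha⟩ := CaseB.exists_conj_rep hx3 hx1
    have hrep : IsConj L.z (f (mk4 (CaseB.repThree t) (CaseB.det_repThree t))) := by
      refine hx.trans (isConj_iff.2 ⟨(f a)⁻¹, ?_⟩)
      rw [ha, map_mul, map_mul, map_inv]
      group
    have move : ∀ (t : Fin 4) (m : S4), mk4 (hRep t) (det_hRep t) *
        mk4 (CaseB.repThree t) (CaseB.det_repThree t) = m * mk4 (hRep t) (det_hRep t) →
        IsConj L.z (f (mk4 (CaseB.repThree t) (CaseB.det_repThree t))) → IsConj L.z (f m) := by
      intro t m e h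
      refine h.trans (isConj_iff.2 ⟨f (mk4 (hRep t) (det_hRep t)), ?_⟩)
      rw [← map_mul, e, map_mul, mul_inv_cancel_right]
    rcases (by decide : ∀ t : Fin 4, t = 0 ∨ t = 1 ∨ t = 2 ∨ t = 3) t with ht | ht | ht | ht <;>
      subst ht
    · refine ⟨a, ?_⟩
      have e0 : mk4 (CaseB.repThree 0) (CaseB.det_repThree 0) = z4 := code_injective (by
        rw [CaseB.code_mk4, CaseB.code_z4]; rfl)
      rw [ha, e0]
    · have hb := move 1 _ conj_rep_one hrep
      exact absurd hb (notPure _ _ _ _ _ _ m1 (by decide))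
    · have hb := move 2 _ conj_rep_two hrep
      exact absurd hb (notPure _ _ _ _ _ _ m2 (by decide))
    · have hb := move 3 _ conj_rep_three hrep
      exact absurd hb (notPure _ _ _ _ _ _ m3 (by decide))
  have htop := CaseB.range_eq_top f hker hC hfus
  have hk : f.ker = center S4 := by
    refine le_antisymm (fun x hx => ?_) fun x hx => (hker x).2 (center_S4 hx)
    rcases (hker x).1 hx with rfl | rfl
    · exact one_mem _
    · exact neg_one_center
  exact ⟨(QuotientGroup.quotientKerEquivOfSurjective f (MonoidHom.range_eq_top.1 htop)).symm.trans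
    (QuotientGroup.quotientMulEquivOfEq hk)⟩

end Loc

end Cfsg.Agent.L43Three
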