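import Cfsg.Agent.Lib.L43Three.CaseB.Bridge.Second

/-!
S3373, case B: the two affine normalisers agree on the centraliser of `z`.
-/

set_option autoImplicit false
set_option linter.style.haveILetI false
set_option linter.unusedSectionVars false
set_option linter.constructorNameAsVariable false
set_option maxRecDepth 20000
set_option synthInstance.maxSize 2000
set_option maxHeartbeats 1000000

namespace Cfsg.Agent.L43Three

open Subgroup
open WreathChar (Z3)
open A3 (tr upper fix1 qel Z0 eA)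
open Bridge

namespace Bridge

theorem tor_form : ∀ b c e f h i x y w : Z3, (fix1 b c e f h i x y w).det = .o →
    fix1 b c e f h i x y w * tr .z .o .z = tr .z .d .z * fix1 b c e f h i x y w →
    fix1 b c e f h i x y w * tr .z .z .o = tr .z .z .d * fix1 b c e f h i x y w →
    fix1 b c e f h i x y w * fix1 b c e f h i x y w = 1 →
    fix1 b c e f h i x y w = fix1 .z .z .d .z .z .d .z y w := by decide +kernel

theorem tor_shift : ∀ y w : Z3, tr .z y.neg w.neg * tT =
    fix1 .z .z .d .z .z .d .z y w * tr .z y.neg w.neg := by decide +kernel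

theorem form13 : ∀ b c x y w : Z3,
    qel b c x y w * tr .z .o .z = tr .d .o .z * qel b c x y w →
    qel b c x y w * tr .z .z .o = tr .z .z .o * qel b c x y w →
    ((b = .z ∧ c = .z) ∨ (y = .z ∧ w = .z)) → qel b c x y w * tT * qel b c x y w = tT →
    qel b c x y w = qel .d .z .z .z .z := by decide +kernel

theorem form23 : ∀ b c x y w : Z3,
    qel b c x y w * tr .z .o .z = tr .z .o .z * qel b c x y w →
    qel b c x y w * tr .z .z .o = tr .d .z .o * qel b c x y w →
    ((b = .z ∧ c = .z) ∨ (y = .z ∧ w = .z)) → qel b c x y w * tT * qel b c x y w = tT →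
    qel b c x y w = qel .z .d .z .z .z := by decide +kernel

theorem form12 : ∀ b c e f h i x y w : Z3, (fix1 b c e f h i x y w).det = .o →
    fix1 b c e f h i x y w * tT = tT * fix1 b c e f h i x y w →
    fix1 b c e f h i x y w * tr .z .o .z = tr .z .o .d * fix1 b c e f h i x y w →
    fix1 b c e f h i x y w * tr .z .z .o = tr .z .z .o * fix1 b c e f h i x y w →
    fix1 b c e f h i x y w = fix1 .z .z .o .z .d .o x .z .z := by decide +kernel

theorem form21 : ∀ b c e f h i x y w : Z3, (fix1 b c e f h i x y w).det = .o →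
    fix1 b c e f h i x y w * tT = tT * fix1 b c e f h i x y w →
    fix1 b c e f h i x y w * tr .z .o .z = tr .z .o .z * fix1 b c e f h i x y w →
    fix1 b c e f h i x y w * tr .z .z .o = tr .z .d .o * fix1 b c e f h i x y w →
    fix1 b c e f h i x y w = fix1 .z .z .o .d .z .o x .z .z := by decide +kernel

theorem mixed12 : ∀ x : Z3, x ≠ .z →
    (⟨.z, .z, .o, .o, .z, .z, .z, .o, .z, .z, .z, .z⟩ : A3) * fix1 .z .z .o .z .d .o x .z .z =
      qel .z .d .z x .z * ⟨.z, .z, .o, .o, .z, .z, .z, .o, .z, .z, .z, .z⟩ := by decide +kernel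

theorem mixed21 : ∀ x : Z3, x ≠ .z →
    (⟨.z, .o, .z, .o, .z, .z, .z, .z, .d, .z, .z, .z⟩ : A3) * fix1 .z .z .o .d .z .o x .z .z =
      qel .z .o .z x .z * ⟨.z, .o, .z, .o, .z, .z, .z, .z, .d, .z, .z, .z⟩ := by decide +kernel

end Bridge

namespace Loc

variable {G : Type*} [Group G] [Finite G] (L : Loc G)
include L

/-- The coordinates moved by a translation. -/
def shift (u : Multiplicative Vec) : Loc G where
  toConf := L.toConf
  iota := L.iota.comp (MulAut.conj (trans u)).toMonoidHom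
  iota_inj := L.iota_inj.comp (MulAut.conj (trans u)).injective
  z_eq := by
    show L.iota (trans u * trans (e 0) * (trans u)⁻¹) = L.z
    rw [← map_inv, ← map_mul, ← map_mul, mul_inv_cancel_comm, L.z_eq]
  cz_le := by
    rw [MonoidHom.range_comp, MonoidHom.range_eq_top.2 (MulAut.conj (trans u)).surjective,
      ← MonoidHom.range_eq_map]
    exact L.cz_le
  norm_eq := by
    have e : (L.iota.comp (MulAut.conj (trans u)).toMonoidHom).comp trans = L.iota.comp trans := by
      refine MonoidHom.ext fun v => ?_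
      show L.iota (trans u * trans v * (trans u)⁻¹) = L.iota (trans v)
      rw [← map_inv, ← map_mul, ← map_mul, mul_inv_cancel_comm]
    have hr : (L.iota.comp (MulAut.conj (trans u)).toMonoidHom).range = L.iota.range := by
      rw [MonoidHom.range_comp, MonoidHom.range_eq_top.2 (MulAut.conj (trans u)).surjective,
        ← MonoidHom.range_eq_map]
    rw [e, hr, L.norm_eq]
  trans_pure := fun v hv => by
    obtain ⟨n, hn⟩ := L.trans_pure v hv
    refine ⟨(trans u)⁻¹ * n * trans u, ?_⟩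
    show L.iota (trans u * ((trans u)⁻¹ * n * trans u) * (trans u)⁻¹) * L.z *
      (L.iota (trans u * ((trans u)⁻¹ * n * trans u) * (trans u)⁻¹))⁻¹ =
      L.iota (trans u * trans v * (trans u)⁻¹)
    rw [show trans u * ((trans u)⁻¹ * n * trans u) * (trans u)⁻¹ = n by group, hn]
    rw [← map_inv trans, ← map_mul, ← map_mul, mul_inv_cancel_comm]
  not_dvd := L.not_dvd

omit L in
theorem det_tr (x y w : Z3) : (tr x y w).det = .o :=
  (by decide +kernel : ∀ x y w : Z3, (tr x y w).det = .o) x y w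

theorem el_shift (a b c : Z3) (p : A3) :
    (L.shift (.ofAdd ![a.toZ, b.toZ, c.toZ])).el p =
      L.el (tr a b c) * L.el p * (L.el (tr a b c))⁻¹ := by
  rw [L.el_tr]
  show L.iota (trans _ * p.toAff * (trans _)⁻¹) = _
  rw [map_mul, map_mul, map_inv]
  rfl

/-- The second system agrees with the first on the centraliser of `z`. -/
structure Agree (L₂ : Loc G) : Prop where
  z_eq : L₂.z = L.z
  Q_eq : L₂.Q = L.Q
  tr_eq : ∀ x y w, L₂.el (tr x y w) = L.el (qel y w x .z .z)
  tor : L₂.el tT = L.el tT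
  e13 : L₂.el (qel .d .z .z .z .z) = L.el (tr .z .o .z)
  e23 : L₂.el (qel .z .d .z .z .z) = L.el (tr .z .z .o)
  e12 : L₂.el s12 = L.el r12
  e21 : L₂.el s21 = L.el r21

/-- A relation read in both systems. -/
theorem read {L₂ : Loc G} {p q X X' Y Y' : A3} (hp : p.det = .o) (hq : q.det = .o) (hX : X.det = .o)
    (hX' : X'.det = .o) (hY : Y.det = .o) (hY' : Y'.det = .o) (e : L₂.el q = L.el p)
    (eX : L₂.el X' = L.el X) (eY : L₂.el Y' = L.el Y) (h : p * X = Y * p) : q * X' = Y' * q := by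
  refine L₂.el_inj (A3.det_mul hq hX') (A3.det_mul hY' hq) ?_
  rw [L₂.el_mul hq hX', L₂.el_mul hY' hq, e, eX, eY, ← L.el_mul hp hX, ← L.el_mul hY hp, h]

theorem exists_agree (hp : IsConj L.z (L.el eA)) : ∃ L₂ : Loc G, L.Agree L₂ := by
  obtain ⟨M, hconf, hM⟩ := L.exists_second_translations hp
  have hMz : M.z = L.z := by rw [hconf]
  -- the toral involution
  have hT : L.el tT ∈ M.Cz := M.mem_Cz.2 (by
    rw [hMz]
    exact L.mem_Cz.1 (L.el_mem_Cz det_fixed.1 (by decide +kernel)))
  obtain ⟨b, c, e, f, h, i, x, y, w, hd, he⟩ := M.exists_fix hT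
  have act : ∀ {p q : A3}, p.det = .o → q.det = .o → M.el q = L.el p →
      ∀ y w y' w' k : Z3, p * qel y w .z .z .z = qel y' w' k .z .z * p →
        q * tr .z y w = tr k y' w' * q := fun {p q} hp hq he y w y' w' k h =>
    L.read hp hq (qel_det _ _ _ _ _) (det_tr _ _ _) (qel_det _ _ _ _ _) (det_tr _ _ _)
      he (hM _ _ _) (hM _ _ _) h
  have eT := tor_form b c e f h i x y w hd
    (act det_fixed.1 hd he .o .z .d .z .z (by decide +kernel))
    (act det_fixed.1 hd he .z .o .z .d .z (by decide +kernel))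
    (M.el_inj (A3.det_mul hd hd) rfl (by
      rw [M.el_mul hd hd, he, ← L.el_mul det_fixed.1 det_fixed.1,
        show tT * tT = 1 by decide +kernel, L.el_one, M.el_one]))
  rw [eT] at he
  set L₂ := M.shift (.ofAdd ![Z3.z.toZ, y.neg.toZ, w.neg.toZ]) with hL₂
  have hz : L₂.z = L.z := hMz
  have hQ : L₂.Q = L.Q := by show M.Q = L.Q; rw [hconf]
  have htr : ∀ x' y' w', L₂.el (tr x' y' w') = L.el (qel y' w' x' .z .z) := by
    intro x' y' w'
    rw [hL₂, M.el_shift, ← hM x' y' w', ← M.el_mul (det_tr _ _ _) (det_tr _ _ _),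
      mul_inv_eq_iff_eq_mul, ← M.el_mul (det_tr _ _ _) (det_tr _ _ _)]
    exact congrArg M.el ((by decide +kernel : ∀ a b c x y w : Z3,
      tr a b c * tr x y w = tr x y w * tr a b c) _ _ _ _ _ _)
  have hdy : (fix1 .z .z .d .z .z .d .z y w).det = .o := eT ▸ hd
  have htor : L₂.el tT = L.el tT := by
    rw [hL₂, M.el_shift, ← he, mul_inv_eq_iff_eq_mul, ← M.el_mul (det_tr _ _ _) det_fixed.1,
      ← M.el_mul hdy (det_tr _ _ _), tor_shift]
  have act₂ : ∀ {p q : A3}, p.det = .o → q.det = .o → L₂.el q = L.el p →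
      ∀ y w y' w' k : Z3, p * qel y w .z .z .z = qel y' w' k .z .z * p →
        q * tr .z y w = tr k y' w' * q := fun {p q} hp hq he y w y' w' k h =>
    L.read hp hq (qel_det _ _ _ _ _) (det_tr _ _ _) (qel_det _ _ _ _ _) (det_tr _ _ _)
      he (htr _ _ _) (htr _ _ _) h
  have pure₂ : ∀ {p q : A3}, L₂.el q = L.el p → L.Pure (L.el p) → L₂.Pure (L₂.el q) := by
    intro p q he hP
    show IsConj L₂.z (L₂.el q)
    rw [hz, he]
    exact hP
  have mem₂ : ∀ {p : A3}, p.det = .o → p * Z0 = Z0 * p → L.el p ∈ L₂.Cz := fun {p} hd hc =>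
    L₂.mem_Cz.2 (by rw [hz]; exact L.mem_Cz.1 (L.el_mem_Cz hd hc))
  have trQ : ∀ {p : A3} {a1 a2 a3 : Z3}, p = tr a1 a2 a3 → tr a1 a2 a3 ≠ 1 →
      p * tT * p = tT → ∃ b c x y w, L₂.el (qel b c x y w) = L.el p ∧
        ((b = .z ∧ c = .z) ∨ (y = .z ∧ w = .z)) ∧
        qel b c x y w * tT * qel b c x y w = tT := by
    intro p a1 a2 a3 hp hne hinv
    subst hp
    obtain ⟨b, c, x, y, w, he⟩ := L₂.mem_Q.1 (hQ ▸ L.tr_Q a1 a2 a3)
    refine ⟨b, c, x, y, w, he, L₂.pure_qel (pure₂ he (L.pure_tr hne)), ?_⟩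
    refine L₂.el_inj (A3.det_mul (A3.det_mul (qel_det _ _ _ _ _) det_fixed.1) (qel_det _ _ _ _ _))
      det_fixed.1 ?_
    rw [L₂.el_mul (A3.det_mul (qel_det _ _ _ _ _) det_fixed.1) (qel_det _ _ _ _ _),
      L₂.el_mul (qel_det _ _ _ _ _) det_fixed.1, he, htor, ← L.el_mul (det_tr _ _ _) det_fixed.1,
      ← L.el_mul (A3.det_mul (det_tr _ _ _) det_fixed.1) (det_tr _ _ _), hinv]
  have rel : ∀ {p q : A3}, p.det = .o → q.det = .o → L₂.el q = L.el p → p * tT = tT * p →
      q * tT = tT * q := fun {p q} hp hq he h =>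
    L.read hp hq det_fixed.1 det_fixed.1 det_fixed.1 det_fixed.1 he htor htor h
  refine ⟨L₂, ⟨hz, hQ, htr, htor, ?_, ?_, ?_, ?_⟩⟩
  · obtain ⟨b, c, x, y, w, he, hc, hi⟩ := trQ (p := tr .z .o .z) rfl (by decide +kernel)
      (by decide +kernel)
    rw [← form13 b c x y w (act₂ (det_tr _ _ _) (qel_det _ _ _ _ _) he .o .z .o .z .d (by decide +kernel))
      (act₂ (det_tr _ _ _) (qel_det _ _ _ _ _) he .z .o .z .o .z (by decide +kernel)) hc hi, he]
  · obtain ⟨b, c, x, y, w, he, hc, hi⟩ := trQ (p := tr .z .z .o) rfl (by decide +kernel)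
      (by decide +kernel)
    rw [← form23 b c x y w (act₂ (det_tr _ _ _) (qel_det _ _ _ _ _) he .o .z .o .z .z (by decide +kernel))
      (act₂ (det_tr _ _ _) (qel_det _ _ _ _ _) he .z .o .z .o .d (by decide +kernel)) hc hi, he]
  · obtain ⟨b, c, e, f, h, i, x, y, w, hd, he⟩ := L₂.exists_fix
      (mem₂ det_fixed.2.1 (by decide +kernel))
    have e12 := form12 b c e f h i x y w hd (rel det_fixed.2.1 hd he (by decide +kernel))
      (act₂ det_fixed.2.1 hd he .o .z .o .d .z (by decide +kernel))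
      (act₂ det_fixed.2.1 hd he .z .o .z .o .z (by decide +kernel))
    rw [e12] at he hd
    by_cases hx : x = .z
    · subst hx; exact he
    exfalso
    have hP : L.Pure (L.el r12) := by
      rw [L.el_conj (c := ⟨.z, .z, .o, .o, .z, .z, .z, .o, .z, .z, .z, .z⟩) (p := eA) rfl rfl
        det_fixed.2.1 (by decide +kernel)]
      exact L.pure_conj _ hp
    have h2 := L₂.pure_conj (L₂.el ⟨.z, .z, .o, .o, .z, .z, .z, .o, .z, .z, .z, .z⟩) (pure₂ he hP)
    rw [← L₂.el_conj rfl hd (qel_det _ _ _ _ _) (mixed12 x hx)] at h2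
    rcases L₂.pure_qel h2 with ⟨-, h3⟩ | ⟨h3, -⟩
    · exact absurd h3 (by decide)
    · exact hx h3
  · obtain ⟨b, c, e, f, h, i, x, y, w, hd, he⟩ := L₂.exists_fix
      (mem₂ det_fixed.2.2.1 (by decide +kernel))
    have e21 := form21 b c e f h i x y w hd (rel det_fixed.2.2.1 hd he (by decide +kernel))
      (act₂ det_fixed.2.2.1 hd he .o .z .o .z .z (by decide +kernel))
      (act₂ det_fixed.2.2.1 hd he .z .o .d .o .z (by decide +kernel))
    rw [e21] at he hd
    by_cases hx : x = .z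
    · subst hx; exact he
    exfalso
    have hP : L.Pure (L.el r21) := by
      rw [L.el_conj (c := ⟨.z, .z, .d, .z, .o, .z, .o, .z, .z, .z, .z, .z⟩) (p := eA) rfl rfl
        det_fixed.2.2.1 (by decide +kernel)]
      exact L.pure_conj _ hp
    have h2 := L₂.pure_conj (L₂.el ⟨.z, .o, .z, .o, .z, .z, .z, .z, .d, .z, .z, .z⟩) (pure₂ he hP)
    rw [← L₂.el_conj rfl hd (qel_det _ _ _ _ _) (mixed21 x hx)] at h2
    rcases L₂.pure_qel h2 with ⟨-, h3⟩ | ⟨h3, -⟩
    · exact absurd h3 (by decide)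
    · exact hx h3

end Loc

end Cfsg.Agent.L43Three
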