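import Cfsg.Agent.Lib.L43Three.CaseB.Bridge.Twist
import Cfsg.Agent.Lib.L43Three.CaseB.Setup
import Cfsg.Agent.Lib.CTRec.TypeA
import Cfsg.Agent.Lib.Classical.SL

/-!
S3373, case B: the homomorphism of `SL(4,3)` from the two affine normalisers.
-/

set_option autoImplicit false
set_option linter.style.haveILetI false
set_option linter.unusedSectionVars false
set_option linter.constructorNameAsVariable false
set_option maxRecDepth 20000
set_option synthInstance.maxSize 2000
set_option maxHeartbeats 1000000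

namespace Cfsg.Agent.L43Three

open Subgroup Matrix
open WreathChar (Z3)
open A3 (tr upper fix1 qel Z0 eA)
open Bridge
open SL2Pres (up low)
open CTRec (emb01 emb12)
open scoped commutatorElement

namespace Bridge

/-- The permutation of the coordinates of the second system. -/
def sigmaP : Fin 3 ≃ Fin 3 where
  toFun := ![2, 0, 1]
  invFun := ![1, 2, 0]
  left_inv := fun x => by fin_cases x <;> rfl
  right_inv := fun x => by fin_cases x <;> rfl

/-- The inverse transpose, with permuted coordinates. -/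
def dual : SL₃ →* SL₃ :=
  MonoidHom.mk' (fun B => ⟨((B⁻¹ : SL₃).1ᵀ).submatrix sigmaP sigmaP, by
    rw [Matrix.det_submatrix_equiv_self, Matrix.det_transpose, (B⁻¹ : SL₃).2]⟩) fun B C =>
    Subtype.ext (by
      show (((B * C)⁻¹ : SL₃).1ᵀ).submatrix sigmaP sigmaP =
        ((B⁻¹ : SL₃).1ᵀ).submatrix sigmaP sigmaP * ((C⁻¹ : SL₃).1ᵀ).submatrix sigmaP sigmaP
      have e : ((B * C)⁻¹ : SL₃).1 = (C⁻¹ : SL₃).1 * (B⁻¹ : SL₃).1 := by
        rw [_root_.mul_inv_rev]; rfl
      rw [e, Matrix.transpose_mul, Matrix.submatrix_mul_equiv])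

/-- The transvection of `SL₃`, inverted. -/
theorem transvection_inv {i j : Fin 3} (h : i ≠ j) (t : K) :
    (SpecialLinearGroup.transvection h t)⁻¹ = SpecialLinearGroup.transvection h (-t) := by
  rw [← SLPres.slData_y h, ← SLPres.slData_y h, (SLPres.slData 3 K).y_neg h]

theorem dual_transvection {i j : Fin 3} (h : i ≠ j) (t : K) :
    (dual (SpecialLinearGroup.transvection h t)).1 =
      ((1 + Matrix.single i j (-t) : Matrix (Fin 3) (Fin 3) K)ᵀ).submatrix sigmaP sigmaP := by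
  show (((SpecialLinearGroup.transvection h t)⁻¹ : SL₃).1ᵀ).submatrix sigmaP sigmaP = _
  rw [transvection_inv]
  rfl

end Bridge

namespace Loc

variable {G : Type*} [Group G] [Finite G] (L : Loc G)
include L

theorem iota_lin {p : A3} (hp : p.det = .o) {B : SL₃} (hB : B.1 = p.toM)
    (hv : p.x = .z ∧ p.y = .z ∧ p.w = .z) : L.iota (lin B) = L.el p := by
  obtain ⟨hx, hy, hw⟩ := hv
  refine congrArg L.iota (SemidirectProduct.ext ?_ (Subtype.ext ?_))
  · rw [A3.toAff_left hp]
    refine Multiplicative.toAdd.injective (funext fun i => ?_)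
    fin_cases i <;> simp [A3.toV, hx, hy, hw, WreathChar.Z3.toZ]
  · rw [A3.toAff_right hp, SemidirectProduct.right_inr, hB]

/-- The first fundamental homomorphism. -/
def psiOne : SL₃ →* G := L.iota.comp lin

/-- The second fundamental homomorphism. -/
def psiTwo : SL₃ →* G := L.iota.comp (lin.comp dual)

end Loc

namespace Bridge

open A3

theorem toM01 : ∀ k : Z3, ((SpecialLinearGroup.transvection (i := 0) (j := 1) (by decide) k.toZ :
    SL₃)).1 = (upper k .z .z .z .z .z).toM := by decide +kernel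

theorem toM10 : ∀ k : Z3, ((SpecialLinearGroup.transvection (i := 1) (j := 0) (by decide) k.toZ :
    SL₃)).1 = (⟨.o, .z, .z, k, .o, .z, .z, .z, .o, .z, .z, .z⟩ : A3).toM := by decide +kernel

theorem toM12 : ∀ k : Z3, ((SpecialLinearGroup.transvection (i := 1) (j := 2) (by decide) k.toZ :
    SL₃)).1 = (r12k k).toM := by decide +kernel

theorem toM21 : ∀ k : Z3, ((SpecialLinearGroup.transvection (i := 2) (j := 1) (by decide) k.toZ :
    SL₃)).1 = (fix1 .z .z .o .z k .o .z .z .z).toM := by decide +kernel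

theorem toM02 : ∀ k : Z3, ((SpecialLinearGroup.transvection (i := 0) (j := 2) (by decide) k.toZ :
    SL₃)).1 = (qel .z k .z .z .z).toM := by decide +kernel

theorem dual01 : ∀ k : Z3, ((1 + Matrix.single (0 : Fin 3) 1 (-k.toZ) :
    Matrix (Fin 3) (Fin 3) K)ᵀ).submatrix sigmaP sigmaP =
      (fix1 .z .z .o .z k.neg .o .z .z .z).toM := by decide +kernel

theorem dual10 : ∀ k : Z3, ((1 + Matrix.single (1 : Fin 3) 0 (-k.toZ) :
    Matrix (Fin 3) (Fin 3) K)ᵀ).submatrix sigmaP sigmaP =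
      (fix1 .z .z .o k.neg .z .o .z .z .z).toM := by decide +kernel

theorem dual12 : ∀ k : Z3, ((1 + Matrix.single (1 : Fin 3) 2 (-k.toZ) :
    Matrix (Fin 3) (Fin 3) K)ᵀ).submatrix sigmaP sigmaP =
      (qel .z k.neg .z .z .z).toM := by decide +kernel

theorem dual21 : ∀ k : Z3, ((1 + Matrix.single (2 : Fin 3) 1 (-k.toZ) :
    Matrix (Fin 3) (Fin 3) K)ᵀ).submatrix sigmaP sigmaP =
      (⟨.o, .z, .z, .z, .o, .z, k.neg, .z, .o, .z, .z, .z⟩ : A3).toM := by decide +kernel

theorem dets : ∀ k : Z3, (upper k .z .z .z .z .z).det = .o ∧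
    (⟨.o, .z, .z, k, .o, .z, .z, .z, .o, .z, .z, .z⟩ : A3).det = .o ∧
    (fix1 .z .z .o .z k .o .z .z .z).det = .o ∧ (fix1 .z .z .o k .z .o .z .z .z).det = .o ∧
    (⟨.o, .z, .z, .z, .o, .z, k, .z, .o, .z, .z, .z⟩ : A3).det = .o := by decide +kernel

end Bridge

namespace Loc

variable {G : Type*} [Group G] [Finite G] (L : Loc G) (L₂ : Loc G)

theorem agree12k (A : L.Agree L₂) (k : Z3) :
    L₂.el (fix1 .z .z .o .z k.neg .o .z .z .z) = L.el (r12k k) := by
  cases k
  · exact L₂.el_one.trans L.el_one.symm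
  · exact A.e12
  · rw [show fix1 .z .z .o .z Z3.d.neg .o .z .z .z = s12 * s12 by decide +kernel,
      show r12k .d = r12 * r12 by decide +kernel, L₂.el_mul det_fixed.2.2.2.1 det_fixed.2.2.2.1,
      L.el_mul det_fixed.2.1 det_fixed.2.1, A.e12]

theorem agree21k (A : L.Agree L₂) (k : Z3) :
    L₂.el (fix1 .z .z .o k.neg .z .o .z .z .z) = L.el (fix1 .z .z .o .z k .o .z .z .z) := by
  cases k
  · exact L₂.el_one.trans L.el_one.symm
  · exact A.e21
  · rw [show fix1 .z .z .o Z3.d.neg .z .o .z .z .z = s21 * s21 by decide +kernel,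
      show fix1 .z .z .o .z Z3.d .o .z .z .z = r21 * r21 by decide +kernel,
      L₂.el_mul det_fixed.2.2.2.2 det_fixed.2.2.2.2,
      L.el_mul det_fixed.2.2.1 det_fixed.2.2.1, A.e21]

theorem agree23k (A : L.Agree L₂) (k : Z3) :
    L₂.el (qel .z k.neg .z .z .z) = L.el (tr .z .z k) := by
  cases k
  · exact L₂.el_one.trans L.el_one.symm
  · exact A.e23
  · rw [show qel .z Z3.d.neg .z .z .z = qel .z .d .z .z .z * qel .z .d .z .z .z by decide +kernel,
      show tr .z .z Z3.d = tr .z .z .o * tr .z .z .o by decide +kernel,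
      L₂.el_mul (qel_det _ _ _ _ _) (qel_det _ _ _ _ _), L.el_mul (det_tr _ _ _) (det_tr _ _ _), A.e23]

theorem psiOne_01 (k : Z3) : L.psiOne (emb01 (up k.toZ)) = L.el (upper k .z .z .z .z .z) := by
  rw [CTRec.emb01_up, SLPres.slData_y (by decide)]
  exact L.iota_lin (dets k).1 (toM01 k) ⟨rfl, rfl, rfl⟩

theorem psiOne_10 (k : Z3) : L.psiOne (emb01 (low k.toZ)) =
    L.el ⟨.o, .z, .z, k, .o, .z, .z, .z, .o, .z, .z, .z⟩ := by
  rw [CTRec.emb01_low, SLPres.slData_y (by decide)]
  exact L.iota_lin (dets k).2.1 (toM10 k) ⟨rfl, rfl, rfl⟩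

theorem psiOne_12 (k : Z3) : L.psiOne (emb12 (up k.toZ)) = L.el (r12k k) := by
  rw [CTRec.emb12_up, SLPres.slData_y (by decide)]
  exact L.iota_lin (r12k_det k) (toM12 k) ⟨rfl, rfl, rfl⟩

theorem psiOne_21 (k : Z3) : L.psiOne (emb12 (low k.toZ)) =
    L.el (fix1 .z .z .o .z k .o .z .z .z) := by
  rw [CTRec.emb12_low, SLPres.slData_y (by decide)]
  exact L.iota_lin (dets k).2.2.1 (toM21 k) ⟨rfl, rfl, rfl⟩

theorem psiTwo_12 (k : Z3) : L₂.psiTwo (emb01 (up k.toZ)) =
    L₂.el (fix1 .z .z .o .z k.neg .o .z .z .z) := by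
  rw [CTRec.emb01_up, SLPres.slData_y (by decide)]
  exact L₂.iota_lin (dets k.neg).2.2.1 ((dual_transvection _ _).trans (dual01 k)) ⟨rfl, rfl, rfl⟩

theorem psiTwo_21 (k : Z3) : L₂.psiTwo (emb01 (low k.toZ)) =
    L₂.el (fix1 .z .z .o k.neg .z .o .z .z .z) := by
  rw [CTRec.emb01_low, SLPres.slData_y (by decide)]
  exact L₂.iota_lin (dets k.neg).2.2.2.1 ((dual_transvection _ _).trans (dual10 k)) ⟨rfl, rfl, rfl⟩

theorem psiTwo_23 (k : Z3) : L₂.psiTwo (emb12 (up k.toZ)) = L₂.el (qel .z k.neg .z .z .z) := by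
  rw [CTRec.emb12_up, SLPres.slData_y (by decide)]
  exact L₂.iota_lin (qel_det _ _ _ _ _) ((dual_transvection _ _).trans (dual12 k)) ⟨rfl, rfl, rfl⟩

theorem psiTwo_32 (k : Z3) : L₂.psiTwo (emb12 (low k.toZ)) =
    L₂.el ⟨.o, .z, .z, .z, .o, .z, k.neg, .z, .o, .z, .z, .z⟩ := by
  rw [CTRec.emb12_low, SLPres.slData_y (by decide)]
  exact L₂.iota_lin (dets k.neg).2.2.2.2 ((dual_transvection _ _).trans (dual21 k)) ⟨rfl, rfl, rfl⟩

omit L L₂ in
/-- Homomorphisms of `SL₂` agreeing on root elements. -/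
theorem sl2_ext {f g : SpecialLinearGroup (Fin 2) K →* G} (h1 : ∀ k : Z3, f (up k.toZ) = g (up k.toZ))
    (h2 : ∀ k : Z3, f (low k.toZ) = g (low k.toZ)) : f = g := by
  refine MonoidHom.eq_of_eqOn_dense (CTRec.sl2_gen (F := K)) ?_
  rintro _ (⟨t, rfl⟩ | ⟨t, rfl⟩)
  · obtain ⟨k, rfl⟩ := toZ_surj t; exact h1 k
  · obtain ⟨k, rfl⟩ := toZ_surj t; exact h2 k

omit L L₂ in
/-- Images of `SL₂` commute as soon as their root elements do. -/
theorem sl2_commute {f g : SpecialLinearGroup (Fin 2) K →* G}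
    (h1 : Commute (f (up 1)) (g (up 1))) (h2 : Commute (f (up 1)) (g (low 1)))
    (h3 : Commute (f (low 1)) (g (up 1))) (h4 : Commute (f (low 1)) (g (low 1))) :
    ∀ a ∈ f.range, ∀ b ∈ g.range, a * b = b * a := by
  have pw : ∀ t : K, ∃ n : ℕ, (up t : SpecialLinearGroup (Fin 2) K) = up 1 ^ n ∧
      (low t : SpecialLinearGroup (Fin 2) K) = low 1 ^ n := fun t => by
    refine ⟨t.val, ?_⟩
    revert t
    decide +kernel
  have key : ∀ (b : G), Commute (f (up 1)) b → Commute (f (low 1)) b → ∀ a ∈ f.range, Commute a b := by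
    intro b c1 c2
    rintro _ ⟨x, rfl⟩
    suffices h : (⊤ : Subgroup (SpecialLinearGroup (Fin 2) K)) ≤
        (centralizer ({b} : Set G)).comap f from
      mem_centralizer_singleton_iff.1 (h (mem_top x))
    rw [← CTRec.sl2_gen (F := K), closure_le]
    rintro _ (⟨t, rfl⟩ | ⟨t, rfl⟩) <;> obtain ⟨n, hu, hl⟩ := pw t
    · rw [hu, SetLike.mem_coe, mem_comap, map_pow]
      exact mem_centralizer_singleton_iff.2 (c1.pow_left n).eq
    · rw [hl, SetLike.mem_coe, mem_comap, map_pow]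
      exact mem_centralizer_singleton_iff.2 (c2.pow_left n).eq
  intro a ha
  suffices h : (⊤ : Subgroup (SpecialLinearGroup (Fin 2) K)) ≤ (centralizer ({a} : Set G)).comap g by
    rintro _ ⟨x, rfl⟩
    exact (mem_centralizer_singleton_iff.1 (h (mem_top x))).symm
  rw [← CTRec.sl2_gen (F := K), closure_le]
  rintro _ (⟨t, rfl⟩ | ⟨t, rfl⟩) <;> obtain ⟨n, hu, hl⟩ := pw t
  · rw [hu, SetLike.mem_coe, mem_comap, map_pow]
    exact mem_centralizer_singleton_iff.2 (((key _ h1 h3 a ha).pow_right n).eq).symm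
  · rw [hl, SetLike.mem_coe, mem_comap, map_pow]
    exact mem_centralizer_singleton_iff.2 (((key _ h2 h4 a ha).pow_right n).eq).symm

/-- The fundamental homomorphisms of `SL₂`. -/
def psi : Fin 3 → SpecialLinearGroup (Fin 2) K →* G :=
  ![L.psiOne.comp emb01, L.psiOne.comp emb12, (L₂.psiTwo).comp emb12]

theorem psiTwo_compat (A : L.Agree L₂) : (L₂.psiTwo).comp emb01 = L.psiOne.comp emb12 :=
  sl2_ext (fun k => by
    rw [MonoidHom.comp_apply, MonoidHom.comp_apply, psiTwo_12, psiOne_12, L.agree12k L₂ A])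
    fun k => by
      rw [MonoidHom.comp_apply, MonoidHom.comp_apply, psiTwo_21, psiOne_21, L.agree21k L₂ A]

theorem psi_far (A : L.Agree L₂) (hc : Commute (L.el a10) (L₂.el b32)) :
    ∀ a ∈ (L.psiOne.comp emb01).range, ∀ b ∈ ((L₂.psiTwo).comp emb12).range, a * b = b * a := by
  have u0 : (L.psiOne.comp emb01) (up 1) = L.el eA := L.psiOne_01 .o
  have l0 : (L.psiOne.comp emb01) (low 1) = L.el a10 := L.psiOne_10 .o
  have u2 : ((L₂.psiTwo).comp emb12) (up 1) = L.el (tr .z .z .o) :=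
    (L₂.psiTwo_23 .o).trans A.e23
  have l2 : ((L₂.psiTwo).comp emb12) (low 1) = L₂.el b32 := L₂.psiTwo_32 .o
  refine sl2_commute ?_ ?_ ?_ ?_
  · rw [u0, u2]
    exact (L.el_comm rfl (det_tr _ _ _)).2 (by decide +kernel)
  · rw [u0, l2, show eA = qel .o .z .z .z .z from rfl, ← A.tr_eq]
    exact (L₂.el_comm (det_tr _ _ _) det_mono.2.1).2 (by decide +kernel)
  · rw [l0, u2]
    exact (L.el_comm det_mono.1 (det_tr _ _ _)).2 (by decide +kernel)
  · rw [l0, l2]
    exact hc

/-- The homomorphism of `SL(4,3)` with its values on the fundamental root elements. -/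
theorem exists_hom (A : L.Agree L₂) (hc : Commute (L.el a10) (L₂.el b32)) :
    ∃ f : CaseB.S4 →* G, (∀ B : SL₃, ∀ i j : Fin 3, ∀ h : i ≠ j, ∀ t : K,
        B = SpecialLinearGroup.transvection h t →
          f (SpecialLinearGroup.transvection (i := i.castSucc) (j := j.castSucc)
            (fun e => h (Fin.castSucc_injective _ e)) t) = L.psiOne B) ∧
      ∀ k : Z3, f (SpecialLinearGroup.transvection (i := 2) (j := 3) (by decide) k.toZ) =
        L.el (tr .z .z k) := by
  have hcoh : ∀ i j : Fin 3, j.val = i.val + 1 → ∃ Ψ : SL₃ →* G,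
      Ψ.comp emb01 = L.psi L₂ i ∧ Ψ.comp emb12 = L.psi L₂ j := by
    intro i j hij
    fin_cases i <;> fin_cases j <;> simp at hij
    · exact ⟨L.psiOne, rfl, rfl⟩
    · exact ⟨L₂.psiTwo, L.psiTwo_compat L₂ A, rfl⟩
  have hcomm : ∀ i j : Fin 3, i.val + 1 < j.val → ∀ a ∈ (L.psi L₂ i).range,
      ∀ b ∈ (L.psi L₂ j).range, a * b = b * a := by
    intro i j hij
    fin_cases i <;> fin_cases j <;> simp at hij
    exact L.psi_far L₂ A hc
  obtain ⟨y, hy, hnode, -⟩ := CTRec.exists_upto (F := K) (fun i => (L.psi L₂ i).range) (L.psi L₂)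
    (fun _ => rfl) hcoh hcomm 3 (by norm_num) le_rfl
  obtain ⟨f0, hf0⟩ := SLPres.exists_hom_of_data hy.toData
  obtain ⟨π, hπ⟩ := SLPres.exists_toSL 4 K
  have hb := SLPres.toSL_bijective 2 (by norm_num) π hπ
  let φ := MulEquiv.ofBijective π hb
  let f : CaseB.S4 →* G := f0.comp φ.symm.toMonoidHom
  have hf : ∀ (a b : Fin 4) (h : a ≠ b) (t : K),
      f (SpecialLinearGroup.transvection h t) = y a b t := by
    intro a b h t
    rw [← hπ ⟨(a, b), h⟩ t]
    show f0 (φ.symm (π _)) = _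
    rw [show φ.symm (π (PresentedGroup.of (⟨(a, b), h⟩, t))) =
      PresentedGroup.of (⟨(a, b), h⟩, t) from φ.symm_apply_apply _, hf0]
    rfl
  refine ⟨f, ?_, fun k => ?_⟩
  · intro B i j h t hB
    subst hB
    have hS : ∀ (i j : Fin 3) (h : i ≠ j) (t : K), y i j t =
        L.psiOne ((SLPres.slData 3 K).y i j t) := by
      have adj : ∀ t : K, y 0 1 t = L.psiOne ((SLPres.slData 3 K).y 0 1 t) ∧
          y 1 0 t = L.psiOne ((SLPres.slData 3 K).y 1 0 t) ∧
          y 1 2 t = L.psiOne ((SLPres.slData 3 K).y 1 2 t) ∧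
          y 2 1 t = L.psiOne ((SLPres.slData 3 K).y 2 1 t) := by
        intro t
        have h0 := hnode 0 (by norm_num) t
        have h1 := hnode 1 (by norm_num) t
        rw [← CTRec.emb01_up, ← CTRec.emb01_low, ← CTRec.emb12_up, ← CTRec.emb12_low]
        exact ⟨h0.1, h0.2, h1.1, h1.2⟩
      intro i j h t
      fin_cases i <;> fin_cases j <;> first | exact absurd rfl h | skip
      · exact (adj t).1
      · have e := hy.brac (i := 0) (j := 1) (l := 2) (by norm_num) (by norm_num) (by norm_num)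
          (by norm_num) (by norm_num) (by norm_num) t 1
        rw [mul_one, (adj t).1, (adj 1).2.2.1, ← map_commutatorElement,
          (SLPres.slData 3 K).brac (by decide) (by decide) (by decide), mul_one] at e
        exact e.symm
      · exact (adj t).2.1
      · exact (adj t).2.2.1
      · have e := hy.brac (i := 2) (j := 1) (l := 0) (by norm_num) (by norm_num) (by norm_num)
          (by norm_num) (by norm_num) (by norm_num) t 1
        rw [mul_one, (adj t).2.2.2, (adj 1).2.1, ← map_commutatorElement,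
          (SLPres.slData 3 K).brac (by decide) (by decide) (by decide), mul_one] at e
        exact e.symm
      · exact (adj t).2.2.2
    rw [hf, ← SLPres.slData_y h, ← hS i j h t]
    rfl
  · rw [hf, ← L.agree23k L₂ A, ← L₂.psiTwo_23 k]
    exact (hnode 2 (by norm_num) k.toZ).1

end Loc

end Cfsg.Agent.L43Three
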