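import Cfsg.Agent.Lib.L43Three.Loc

/-!
S3373, case B: the second affine normaliser, on the other abelian normal subgroup of order 27,
agreeing with the first on the centraliser of `z`.
-/

set_option autoImplicit false
set_option linter.style.haveILetI false
set_option linter.unusedSectionVars false
set_option maxRecDepth 20000
set_option maxHeartbeats 1000000

namespace Cfsg.Agent.L43Three

open Subgroup Matrix
open WreathChar (Z3)

namespace Bridge

open A3 (tr upper fix1 qel Z0 eA)

/-- The toral involution. -/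
def tT : A3 := fix1 .z .z .d .z .z .d .z .z .z

/-- The root element at `(1,2)`. -/
def r12 : A3 := fix1 .z .z .o .o .z .o .z .z .z

/-- The root element at `(2,1)`. -/
def r21 : A3 := fix1 .z .z .o .z .o .o .z .z .z

/-- The root element at `(1,2)` of the second system. -/
def s12 : A3 := fix1 .z .z .o .z .d .o .z .z .z

/-- The root element at `(2,1)` of the second system. -/
def s21 : A3 := fix1 .z .z .o .d .z .o .z .z .z

theorem det_fixed : tT.det = .o ∧ r12.det = .o ∧ r21.det = .o ∧ s12.det = .o ∧ s21.det = .o := by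
  decide +kernel

theorem val_smul_single : ∀ (a : K) (i j : Fin 3),
    (a.val • (Pi.single i 1 : Vec)) j = if j = i then a else 0 := by decide +kernel

theorem qel_mul : ∀ b c x b' c' x' : Z3, qel b c x .z .z * qel b' c' x' .z .z =
    qel (b.add b') (c.add c') (x.add x') .z .z := by decide +kernel

end Bridge

open Bridge
open A3 (tr upper fix1 qel Z0 eA)

/-- A change of coordinates by a linear map of the translations and the group. -/
theorem exists_twist (M : Matrix (Fin 3) (Fin 3) K) (hM : M.det ≠ 0) :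
    ∃ θ : Aff ≃* Aff, ∀ v, θ (trans v) = trans (.ofAdd (M *ᵥ v.toAdd)) := by
  classical
  have h1 : M * M⁻¹ = 1 := Matrix.mul_nonsing_inv M (isUnit_iff_ne_zero.2 hM)
  have h2 : M⁻¹ * M = 1 := Matrix.nonsing_inv_mul M (isUnit_iff_ne_zero.2 hM)
  let c : SL₃ →* SL₃ :=
    { toFun := fun A => ⟨M * A.1 * M⁻¹, by
        rw [Matrix.det_mul, Matrix.det_mul, A.2, mul_one, ← Matrix.det_mul, h1, Matrix.det_one]⟩
      map_one' := Subtype.ext (by
        show M * (1 : Matrix (Fin 3) (Fin 3) K) * M⁻¹ = 1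
        rw [mul_one, h1])
      map_mul' := fun A B => Subtype.ext (by
        show M * (A.1 * B.1) * M⁻¹ = M * A.1 * M⁻¹ * (M * B.1 * M⁻¹)
        calc M * (A.1 * B.1) * M⁻¹ = M * A.1 * (M⁻¹ * M) * B.1 * M⁻¹ := by
              rw [h2, mul_one]; simp [Matrix.mul_assoc]
          _ = _ := by simp [Matrix.mul_assoc]) }
  let t : Multiplicative Vec →* Aff := MonoidHom.mk' (fun v => trans (.ofAdd (M *ᵥ v.toAdd)))
    fun v w => by rw [← map_mul]; congr 1; rw [toAdd_mul, Matrix.mulVec_add, ofAdd_add]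
  let f : Aff →* Aff := SemidirectProduct.lift t (lin.comp c) fun A => by
    refine MonoidHom.ext fun v => ?_
    show trans (.ofAdd (M *ᵥ (act A v).toAdd)) =
      lin (c A) * trans (.ofAdd (M *ᵥ v.toAdd)) * (lin (c A))⁻¹
    rw [← map_inv, ← SemidirectProduct.inl_aut, act_apply, act_apply, toAdd_ofAdd, toAdd_ofAdd]
    congr 2
    show M *ᵥ (A.1 *ᵥ v.toAdd) = (M * A.1 * M⁻¹) *ᵥ (M *ᵥ v.toAdd)
    rw [Matrix.mulVec_mulVec, Matrix.mulVec_mulVec, Matrix.mul_assoc (M * A.1), h2, mul_one]
  have hinj : Function.Injective f := (injective_iff_map_eq_one f).2 fun a ha => by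
    have ha' : trans (.ofAdd (M *ᵥ a.left.toAdd)) * lin (c a.right) = 1 := ha
    have hr : c a.right = 1 := by
      have := congrArg SemidirectProduct.right ha'
      rw [SemidirectProduct.mul_right, SemidirectProduct.right_inl, SemidirectProduct.right_inr,
        one_mul, SemidirectProduct.one_right] at this
      exact this
    have hl : M *ᵥ a.left.toAdd = 0 := by
      rw [hr, map_one, mul_one] at ha'
      exact Multiplicative.ofAdd.injective
        (SemidirectProduct.inl_injective (ha'.trans (map_one trans).symm))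
    refine SemidirectProduct.ext ?_ (Subtype.ext ?_)
    · refine Multiplicative.toAdd.injective ?_
      have h4 : M⁻¹ *ᵥ (M *ᵥ a.left.toAdd) = M⁻¹ *ᵥ 0 := congrArg (M⁻¹ *ᵥ ·) hl
      rw [Matrix.mulVec_mulVec, h2, Matrix.one_mulVec, Matrix.mulVec_zero] at h4
      exact h4
    · have hc1 : (c a.right).1 = M * a.right.1 * M⁻¹ := rfl
      have h3 : M⁻¹ * (M * a.right.1 * M⁻¹) * M = M⁻¹ * 1 * M := by
        rw [← hc1, hr]
        rfl
      have e : M⁻¹ * (M * a.right.1 * M⁻¹) * M = a.right.1 := by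
        simp only [Matrix.mul_assoc, h2, mul_one]
        rw [← Matrix.mul_assoc, h2, one_mul]
      rw [e, mul_one, h2] at h3
      exact h3
  haveI : Finite Aff := Finite.of_equiv _ SemidirectProduct.equivProd.symm
  exact ⟨MulEquiv.ofBijective f (Finite.injective_iff_bijective.1 hinj), fun v =>
    (show f (trans v) = _ by simp [f, t])⟩

namespace Loc

variable {G : Type*} [Group G] [Finite G] (L : Loc G)
include L

theorem el_qel_trans (b c x : Z3) : L.el (qel b c x .z .z) =
    L.el (qel .o .z .z .z .z) ^ b.toZ.val * L.el (qel .z .o .z .z .z) ^ c.toZ.val * L.z ^ x.toZ.val := by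
  have hd : ∀ b c x : Z3, (qel b c x .z .z).det = .o := fun _ _ _ => qel_det _ _ _ _ _
  rw [← L.el_Z0]
  have key : ∀ b c x : Z3, qel b c x .z .z = qel b .z .z .z .z * qel .z c .z .z .z * qel .z .z x .z .z := by
    decide +kernel
  rw [key, L.el_mul (A3.det_mul (qel_det _ _ _ _ _) (qel_det _ _ _ _ _)) (qel_det _ _ _ _ _),
    L.el_mul (qel_det _ _ _ _ _) (qel_det _ _ _ _ _)]
  congr 1
  congr 1
  · cases b
    · exact (L.el_one).trans (pow_zero _).symm
    · exact (pow_one _).symm
    · show _ = L.el (qel .o .z .z .z .z) ^ 2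
      rw [pow_two, ← L.el_mul (qel_det _ _ _ _ _) (qel_det _ _ _ _ _)]
      rfl
  · cases c
    · exact (L.el_one).trans (pow_zero _).symm
    · exact (pow_one _).symm
    · show _ = L.el (qel .z .o .z .z .z) ^ 2
      rw [pow_two, ← L.el_mul (qel_det _ _ _ _ _) (qel_det _ _ _ _ _)]
      rfl
  · cases x
    · exact (L.el_one).trans (pow_zero _).symm
    · exact (pow_one _).symm
    · show _ = L.el Z0 ^ 2
      rw [pow_two, ← L.el_mul rfl rfl]
      rfl

/-- The second system, up to the agreement on the translations. -/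
theorem exists_second_translations (hp : IsConj L.z (L.el eA)) :
    ∃ L₂ : Loc G, L₂.toConf = L.toConf ∧
      ∀ x y w, L₂.el (tr x y w) = L.el (qel y w x .z .z) := by
  classical
  obtain ⟨g, hg⟩ := isConj_iff.1 hp
  have heA : eA = qel .o .z .z .z .z := rfl
  have hgQ : g * L.z * g⁻¹ ∈ L.Q := hg ▸ L.mem_Q.2 ⟨.o, .z, .z, .z, .z, rfl⟩
  have hgz : g * L.z * g⁻¹ ∉ zpowers L.z := by
    rw [hg]
    intro hm
    rcases L.z_cases hm with e | e | e
    · exact absurd (L.el_inj (qel_det _ _ _ _ _) rfl (e.trans L.el_one.symm)) (by decide +kernel)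
    · exact absurd (L.el_inj (qel_det _ _ _ _ _) rfl (e.trans L.el_Z0.symm)) (by decide +kernel)
    · refine absurd (L.el_inj (qel_det _ _ _ _ _) (A3.det_mul rfl rfl) (e.trans ?_) :
        qel .o .z .z .z .z = Z0 * Z0) (by decide +kernel)
      rw [L.el_mul rfl rfl, L.el_Z0, L.inv_sq L.z_mem]
  let P : Pair G := ⟨L.toConf, g, hgQ, hgz⟩
  have hyA : P.y = L.el (qel .o .z .z .z .z) := hg
  have hDsub : (P.D : Set G) ⊆ Set.range (fun p : Z3 × Z3 × Z3 => L.el (qel p.1 p.2.1 p.2.2 .z .z)) := by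
    intro d hd
    have key : ∀ d ∈ P.D, d ≠ 1 → ∃ b c x y w, L.el (qel b c x y w) = d ∧
        ((b = .z ∧ c = .z) ∨ (y = .z ∧ w = .z)) := by
      intro d hd h1
      have hdQ : d ∈ L.Q := P.D_Q hd
      obtain ⟨b, c, x, y, w, he⟩ := L.mem_Q.1 hdQ
      refine ⟨b, c, x, y, w, he, L.pure_qel (x := x) ?_⟩
      obtain ⟨n, -, hn⟩ := P.trans_D hd h1
      rw [he]
      exact isConj_iff.2 ⟨n, hn⟩
    by_cases h1 : d = 1
    · exact ⟨(.z, .z, .z), by rw [h1]; exact L.el_one⟩
    obtain ⟨b, c, x, y, w, he, hcase⟩ := key d hd h1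
    rcases hcase with ⟨rfl, rfl⟩ | ⟨rfl, rfl⟩
    · have hy : qel .z .z x y w * qel .o .z .z .z .z = qel .o .z .z .z .z * qel .z .z x y w := by
        refine (L.el_comm (qel_det _ _ _ _ _) (qel_det _ _ _ _ _)).1 ?_
        rw [he, ← hyA]
        exact P.D_comm _ hd _ P.y_D
      have hy0 : y = .z := (by decide +kernel : ∀ x y w : Z3,
        qel .z .z x y w * qel .o .z .z .z .z = qel .o .z .z .z .z * qel .z .z x y w → y = .z) x y w hy
      subst hy0
      by_cases hw : w = .z
      · subst hw; exact ⟨(.z, .z, x), he⟩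
      exfalso
      have hd' : d * P.y ∈ P.D := mul_mem hd P.y_D
      have he' : L.el (qel .o .z x .z w) = d * P.y := by
        rw [hyA, ← he, ← L.el_mul (qel_det _ _ _ _ _) (qel_det _ _ _ _ _)]
        exact congrArg L.el ((by decide +kernel : ∀ x w : Z3,
          qel .o .z x .z w = qel .z .z x .z w * qel .o .z .z .z .z) x w)
      obtain ⟨n, -, hn⟩ := P.trans_D hd' (fun e => by
        have := L.el_inj (qel_det _ _ _ _ _) rfl (he'.trans (e.trans L.el_one.symm))
        exact absurd this ((by decide +kernel : ∀ x w : Z3, qel .o .z x .z w ≠ 1) x w))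
      rcases L.pure_qel (he' ▸ isConj_iff.2 ⟨n, hn⟩ : L.Pure (L.el (qel .o .z x .z w)))
        with ⟨h, -⟩ | ⟨-, h⟩
      · exact absurd h (by decide)
      · exact hw h
    · exact ⟨(b, c, x), he⟩
  have hDeq : (P.D : Set G) = Set.range (fun p : Z3 × Z3 × Z3 => L.el (qel p.1 p.2.1 p.2.2 .z .z)) := by
    refine Set.eq_of_subset_of_ncard_le hDsub ?_ (Set.toFinite _)
    rw [show (P.D : Set G).ncard = Nat.card P.D from rfl, P.card_D, ← Nat.card_coe_set_eq]
    refine le_trans (Finite.card_range_le _) ?_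
    rw [Nat.card_eq_fintype_card]
    decide
  obtain ⟨ι, hinj, hr, hD, hz, hy⟩ := P.exists_affine
  obtain ⟨v₂, hv₂⟩ := (hD (L.el (qel .z .o .z .z .z))).1
    (by show _ ∈ (P.D : Set G); rw [hDeq]; exact ⟨(.z, .o, .z), rfl⟩)
  set M : Matrix (Fin 3) (Fin 3) K :=
    !![1, 0, v₂.toAdd 0; 0, 1, v₂.toAdd 1; 0, 0, v₂.toAdd 2] with hMdef
  have hM : M.det ≠ 0 := by
    rw [hMdef, Matrix.det_fin_three]
    simp only [Matrix.of_apply, Matrix.cons_val', Matrix.cons_val_zero, Matrix.cons_val_one,
      Matrix.cons_val, Matrix.empty_val', Matrix.cons_val_fin_one]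
    intro h0
    have h2 : v₂.toAdd 2 = 0 := by simpa using h0
    have hv : v₂ = (e 0) ^ (v₂.toAdd 0).val * (e 1) ^ (v₂.toAdd 1).val := by
      refine Multiplicative.toAdd.injective (funext fun i => ?_)
      simp only [e, toAdd_mul, toAdd_pow, toAdd_ofAdd, Pi.add_apply, val_smul_single]
      fin_cases i <;> simp [h2]
    have h3 : L.el (qel .z .o .z .z .z) =
        L.z ^ (v₂.toAdd 0).val * L.el (qel .o .z .z .z .z) ^ (v₂.toAdd 1).val := by
      rw [← hv₂, ← hyA, hv, map_mul, map_mul, map_pow, map_pow, map_pow, map_pow, hz, hy, ← hv]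
    have hk : ∀ k : K, ∃ z : Z3, z.toZ = k := toZ_surj
    obtain ⟨x, hx⟩ := hk (v₂.toAdd 0)
    obtain ⟨b, hb⟩ := hk (v₂.toAdd 1)
    have h4 : L.el (qel .z .o .z .z .z) = L.el (qel b .z x .z .z) := by
      rw [h3, L.el_qel_trans b .z x, hx, hb]
      have hc : Commute L.z (L.el (qel .o .z .z .z .z)) := (L.mem_Cz.1 (L.el_mem_Cz
        (qel_det _ _ _ _ _) (by decide +kernel))).symm
      simp only [show (Z3.z).toZ.val = 0 from rfl, pow_zero, mul_one]
      exact (hc.pow_pow _ _).eq
    exact absurd (L.el_inj (qel_det _ _ _ _ _) (qel_det _ _ _ _ _) h4)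
      ((by decide +kernel : ∀ b x : Z3, qel .z .o .z .z .z ≠ qel b .z x .z .z) b x)
  obtain ⟨θ, hθ⟩ := exists_twist M hM
  set J : Aff →* G := ι.comp θ.toMonoidHom with hJ
  have hJt : ∀ v, J (trans v) = ι (trans (.ofAdd (M *ᵥ v.toAdd))) := fun v => by
    show ι (θ (trans v)) = _
    rw [hθ]
  have hJe : ∀ i : Fin 3, J (trans (e i)) = ι (trans (.ofAdd (fun j => M j i))) := fun i => by
    rw [hJt]
    congr 3
    funext j
    simp [e, Matrix.mulVec, dotProduct, Pi.single_apply]
  have h0 : J (trans (e 0)) = L.z := by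
    refine (hJe 0).trans (Eq.trans ?_ hz)
    congr 3
    funext j
    fin_cases j <;> simp [M, e]
  have h1 : J (trans (e 1)) = L.el (qel .o .z .z .z .z) := by
    refine (hJe 1).trans (Eq.trans ?_ (hy.trans hyA))
    congr 3
    funext j
    fin_cases j <;> simp [M, e]
  have h2 : J (trans (e 2)) = L.el (qel .z .o .z .z .z) := by
    refine (hJe 2).trans (Eq.trans ?_ hv₂)
    congr 2
    refine Multiplicative.toAdd.injective (funext fun j => ?_)
    fin_cases j <;> simp [M]
  have hJr : J.range = ι.range := by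
    rw [hJ, MonoidHom.range_comp, MonoidHom.range_eq_top.2 θ.surjective, ← MonoidHom.range_eq_map]
  have hJD : (J.comp trans).range = P.D := by
    refine le_antisymm ?_ ?_
    · rintro _ ⟨v, rfl⟩
      exact (hD _).2 ⟨_, (hJt v).symm⟩
    · intro d hd
      obtain ⟨w, rfl⟩ := (hD d).1 hd
      refine ⟨.ofAdd (M⁻¹ *ᵥ w.toAdd), ?_⟩
      show J (trans _) = _
      rw [hJt, toAdd_ofAdd, Matrix.mulVec_mulVec,
        Matrix.mul_nonsing_inv M (isUnit_iff_ne_zero.2 hM), Matrix.one_mulVec, ofAdd_toAdd]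
  let L₂ : Loc G :=
    { toConf := L.toConf
      iota := J
      iota_inj := hinj.comp θ.injective
      z_eq := h0
      cz_le := hJr ▸ hr.symm ▸ P.Cz_le_normalizer
      norm_eq := by rw [hJD, hJr, hr]
      trans_pure := fun v hv => by
        have hmem : J (trans v) ∈ P.D := hJD ▸ ⟨v, rfl⟩
        have hne : J (trans v) ≠ 1 := fun h => hv (SemidirectProduct.inl_injective
          ((hinj.comp θ.injective) (h.trans (map_one J).symm) |>.trans (map_one trans).symm))
        obtain ⟨n, hn, hnz⟩ := P.trans_D hmem hne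
        rw [← hr, ← hJr] at hn
        obtain ⟨m, rfl⟩ := hn
        exact ⟨m, hnz⟩
      not_dvd := L.not_dvd }
  refine ⟨L₂, rfl, fun x y w => ?_⟩
  rw [L₂.el_tr, L.el_qel_trans]
  have hv : (Multiplicative.ofAdd ![x.toZ, y.toZ, w.toZ] : Multiplicative Vec) =
      e 1 ^ y.toZ.val * e 2 ^ w.toZ.val * e 0 ^ x.toZ.val := by
    refine Multiplicative.toAdd.injective (funext fun i => ?_)
    simp only [e, toAdd_mul, toAdd_pow, toAdd_ofAdd, Pi.add_apply, val_smul_single]
    fin_cases i <;> simp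
  show J (trans _) = _
  rw [hv, map_mul, map_mul, map_mul, map_mul, map_pow, map_pow, map_pow, map_pow, map_pow, map_pow,
    h0, h1, h2]

end Loc

end Cfsg.Agent.L43Three
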