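import Cfsg.Agent.Lib.L43Three.CaseB.Bridge.Agree

/-!
S3373, case B: a translation by `z` makes the last pair of root elements commute.
-/

set_option autoImplicit false
set_option linter.style.haveILetI false
set_option linter.unusedSectionVars false
set_option linter.constructorNameAsVariable false
set_option maxRecDepth 20000
set_option synthInstance.maxSize 2000
set_option maxHeartbeats 1000000

namespace Cfsg.Agent.L43Three

open Subgroup
open WreathChar (Z3)
open A3 (tr upper fix1 qel Z0 eA)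
open Bridge

namespace Bridge

/-- The root element at `(1,0)`. -/
def a10 : A3 := ⟨.o, .z, .z, .o, .o, .z, .z, .z, .o, .z, .z, .z⟩

/-- The root element at `(3,2)` of the second system. -/
def b32 : A3 := ⟨.o, .z, .z, .z, .o, .z, .d, .z, .o, .z, .z, .z⟩

/-- A monomial element of the first system. -/
def n1 : A3 := ⟨.z, .d, .z, .o, .z, .z, .z, .z, .o, .z, .z, .z⟩

/-- A monomial element of the first system. -/
def n1' : A3 := ⟨.z, .o, .z, .o, .z, .z, .z, .z, .d, .z, .z, .z⟩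

/-- A monomial element of the second system. -/
def n2 : A3 := ⟨.z, .o, .z, .z, .z, .o, .o, .z, .z, .z, .z, .z⟩

/-- A monomial element of the second system. -/
def n2' : A3 := ⟨.z, .z, .d, .z, .o, .z, .o, .z, .z, .z, .z, .z⟩

theorem det_mono : a10.det = .o ∧ b32.det = .o ∧ n1.det = .o ∧ n1'.det = .o ∧ n2.det = .o ∧
    n2'.det = .o := by decide +kernel

/-- A power of the root element at `(1,2)`. -/
def r12k (k : Z3) : A3 := fix1 .z .z .o k .z .o .z .z .z

theorem r12k_det : ∀ k, (r12k k).det = .o := by decide +kernel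

theorem move10 : ∀ k : Z3, a10 * qel .z k .z .z .z = r12k k * qel .z k .z .z .z * a10 := by
  decide +kernel

end Bridge

namespace Loc

variable {G : Type*} [Group G] [Finite G] (L : Loc G)
include L

theorem agree_shift {L₂ : Loc G} (A : L.Agree L₂) (k : Z3) :
    L.Agree (L₂.shift (.ofAdd ![k.toZ, Z3.z.toZ, Z3.z.toZ])) := by
  have fixed : ∀ (p : A3), p.det = .o → tr k .z .z * p = p * tr k .z .z →
      (L₂.shift (.ofAdd ![k.toZ, Z3.z.toZ, Z3.z.toZ])).el p = L₂.el p := by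
    intro p hp h
    rw [L₂.el_shift, ← L₂.el_mul (det_tr _ _ _) hp, h, L₂.el_mul hp (det_tr _ _ _),
      mul_inv_cancel_right]
  refine ⟨A.z_eq, A.Q_eq, fun x y w => ?_, ?_, ?_, ?_, ?_, ?_⟩
  · rw [fixed _ (det_tr _ _ _) ((by decide +kernel : ∀ k x y w : Z3,
      tr k .z .z * tr x y w = tr x y w * tr k .z .z) k x y w), A.tr_eq]
  · rw [fixed _ det_fixed.1 ((by decide +kernel : ∀ k : Z3,
      tr k .z .z * tT = tT * tr k .z .z) k), A.tor]
  · rw [fixed _ (qel_det _ _ _ _ _) ((by decide +kernel : ∀ k : Z3,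
      tr k .z .z * qel .d .z .z .z .z = qel .d .z .z .z .z * tr k .z .z) k), A.e13]
  · rw [fixed _ (qel_det _ _ _ _ _) ((by decide +kernel : ∀ k : Z3,
      tr k .z .z * qel .z .d .z .z .z = qel .z .d .z .z .z * tr k .z .z) k), A.e23]
  · rw [fixed _ det_fixed.2.2.2.1 ((by decide +kernel : ∀ k : Z3,
      tr k .z .z * s12 = s12 * tr k .z .z) k), A.e12]
  · rw [fixed _ det_fixed.2.2.2.2 ((by decide +kernel : ∀ k : Z3,
      tr k .z .z * s21 = s21 * tr k .z .z) k), A.e21]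

/-- The commutator of the two extreme root elements lies in the root group between them. -/
theorem commutator_mem {L₂ : Loc G} (A : L.Agree L₂) :
    ∃ j : Z3, L.el a10 * L₂.el b32 * (L.el a10)⁻¹ * (L₂.el b32)⁻¹ = L.el (r12k j) := by
  obtain ⟨ha, hb, hn1, hn1', hn2, hn2'⟩ := det_mono
  set g₁ := L.el n1 * L₂.el n2 with hg₁
  set g₂ := L₂.el n2' * L.el n1' with hg₂
  have h1 : g₁ * L.z * g₁⁻¹ = L.el r12 := by
    have e1 : L₂.el n2 * L.z * (L₂.el n2)⁻¹ = L.el (qel .z .o .z .z .z) := by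
      rw [← A.z_eq, ← L₂.el_Z0, ← L₂.el_conj hn2 rfl (det_tr _ _ _)
        (by decide +kernel : n2 * Z0 = tr .z .z .o * n2), A.tr_eq]
    have e2 := L.el_conj hn1 (qel_det _ _ _ _ _) det_fixed.2.1
      (by decide +kernel : n1 * qel .z .o .z .z .z = r12 * n1)
    rw [e2, ← e1, hg₁]
    group
  have h2 : g₂ * L.z * g₂⁻¹ = L.el r12 := by
    have e1 : L.el n1' * L.z * (L.el n1')⁻¹ = L₂.el (qel .d .z .z .z .z) := by
      rw [← L.el_Z0, ← L.el_conj hn1' rfl (det_tr _ _ _)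
        (by decide +kernel : n1' * Z0 = tr .z .o .z * n1'), A.e13]
    have e2 := L₂.el_conj hn2' (qel_det _ _ _ _ _) det_fixed.2.2.2.1
      (by decide +kernel : n2' * qel .d .z .z .z .z = s12 * n2')
    rw [← A.e12, e2, ← e1, hg₂]
    group
  -- the first element
  have ha' : g₁⁻¹ * L.el a10 * g₁ ∈ L.Q := by
    have e1 : L₂.el n2 * L₂.el (tr .z .z .d) * (L₂.el n2)⁻¹ = L.el (qel .d .z .z .z .z) := by
      rw [← L₂.el_conj hn2 (det_tr _ _ _) (det_tr _ _ _)
        (by decide +kernel : n2 * tr .z .z .d = tr .z .d .z * n2), A.tr_eq]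
    have e2 := L.el_conj hn1 (qel_det _ _ _ _ _) ha
      (by decide +kernel : n1 * qel .d .z .z .z .z = a10 * n1)
    have e : g₁⁻¹ * L.el a10 * g₁ = L₂.el (tr .z .z .d) := by
      rw [e2, ← e1, hg₁]; group
    rw [e, ← A.Q_eq]
    exact L₂.tr_Q _ _ _
  -- the second element
  have hb' : g₂⁻¹ * L₂.el b32 * g₂ ∈ L.Q := by
    have e1 : L.el n1' * L.el (tr .z .z .o) * (L.el n1')⁻¹ = L₂.el (qel .z .o .z .z .z) := by
      have e : L.el (tr .z .z .d) = L₂.el (qel .z .o .z .z .z) := by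
        have h : L₂.el (qel .z .d .z .z .z) * L₂.el (qel .z .d .z .z .z) =
            L.el (tr .z .z .o) * L.el (tr .z .z .o) := by rw [A.e23]
        rw [← L₂.el_mul (qel_det _ _ _ _ _) (qel_det _ _ _ _ _), ← L.el_mul (det_tr _ _ _) (det_tr _ _ _)] at h
        rw [show qel .z .o .z .z .z = qel .z .d .z .z .z * qel .z .d .z .z .z by decide +kernel, h,
          show tr .z .z .o * tr .z .z .o = tr .z .z .d by decide +kernel]
      rw [← L.el_conj hn1' (det_tr _ _ _) (det_tr _ _ _)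
        (by decide +kernel : n1' * tr .z .z .o = tr .z .z .d * n1'), e]
    have e2 := L₂.el_conj hn2' (qel_det _ _ _ _ _) hb
      (by decide +kernel : n2' * qel .z .o .z .z .z = b32 * n2')
    have e : g₂⁻¹ * L₂.el b32 * g₂ = L.el (tr .z .z .o) := by
      rw [e2, ← e1, hg₂]; group
    rw [e]
    exact L.tr_Q _ _ _
  have hc : g₁⁻¹ * g₂ ∈ L.Cz := L.mem_Cz.2 (by
    calc g₁⁻¹ * g₂ * L.z = g₁⁻¹ * (g₂ * L.z * g₂⁻¹) * g₂ := by group
      _ = g₁⁻¹ * (g₁ * L.z * g₁⁻¹) * g₂ := by rw [h1, h2]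
      _ = L.z * (g₁⁻¹ * g₂) := by group)
  have hb1 : g₁⁻¹ * L₂.el b32 * g₁ ∈ L.Q := by
    have := L.toConf.conjQ hc hb'
    rwa [show g₁⁻¹ * g₂ * (g₂⁻¹ * L₂.el b32 * g₂) * (g₁⁻¹ * g₂)⁻¹ = g₁⁻¹ * L₂.el b32 * g₁ by group]
      at this
  have hm := L.comm_mem _ ha' _ hb1
  rw [commutatorElement_def] at hm
  have hval : ∀ j : Z3, ∀ c, g₁⁻¹ * L.el a10 * g₁ * (g₁⁻¹ * L₂.el b32 * g₁) *
      (g₁⁻¹ * L.el a10 * g₁)⁻¹ * (g₁⁻¹ * L₂.el b32 * g₁)⁻¹ = c → g₁ * c * g₁⁻¹ = L.el (r12k j) →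
      L.el a10 * L₂.el b32 * (L.el a10)⁻¹ * (L₂.el b32)⁻¹ = L.el (r12k j) := by
    intro j c e e'
    rw [← e', ← e]
    group
  rcases L.z_cases hm with e | e | e
  · exact ⟨.z, hval _ _ e (by rw [mul_one, mul_inv_cancel]; exact L.el_one.symm)⟩
  · exact ⟨.o, hval _ _ e h1⟩
  · refine ⟨.d, hval _ _ e ?_⟩
    rw [← conj_inv, h1, inv_eq_iff_mul_eq_one, ← L.el_mul det_fixed.2.1 (r12k_det _)]
    exact (congrArg L.el (by decide +kernel : r12 * r12k .d = 1)).trans L.el_one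

theorem exists_twisted (hp : IsConj L.z (L.el eA)) :
    ∃ L₂ : Loc G, L.Agree L₂ ∧ Commute (L.el a10) (L₂.el b32) := by
  obtain ⟨L₂, A⟩ := L.exists_agree hp
  obtain ⟨j, hj⟩ := L.commutator_mem A
  obtain ⟨ha, hb, -⟩ := det_mono
  refine ⟨_, L.agree_shift A j.neg, ?_⟩
  set k := j.neg with hk
  have hb' : (L₂.shift (.ofAdd ![k.toZ, Z3.z.toZ, Z3.z.toZ])).el b32 =
      L₂.el b32 * L.el (qel .z k .z .z .z) := by
    rw [L₂.el_shift, ← A.tr_eq, ← L₂.el_mul (det_tr _ _ _) hb, ← L₂.el_mul hb (det_tr _ _ _),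
      mul_inv_eq_iff_eq_mul, ← L₂.el_mul (A3.det_mul hb (det_tr _ _ _)) (det_tr _ _ _)]
    exact congrArg L₂.el ((by decide +kernel : ∀ k : Z3,
      tr k .z .z * b32 = b32 * tr .z .z k * tr k .z .z) k)
  rw [hb']
  have hm : L.el (r12k j) * L.el (r12k k) = 1 := by
    rw [← L.el_mul (r12k_det _) (r12k_det _), hk,
      (by decide +kernel : ∀ j : Z3, r12k j * r12k j.neg = 1) j, L.el_one]
  have hR : ∀ i : Z3, L₂.el b32 * L.el (r12k i) = L.el (r12k i) * L₂.el b32 := by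
    have h0 : L₂.el b32 * L.el r12 = L.el r12 * L₂.el b32 := by
      rw [← A.e12]
      exact ((L₂.el_comm hb det_fixed.2.2.2.1).2 (by decide +kernel)).eq
    intro i
    cases i
    · rw [show L.el (r12k .z) = 1 from L.el_one, mul_one, one_mul]
    · exact h0
    · rw [show r12k .d = r12 * r12 by decide +kernel, L.el_mul det_fixed.2.1 det_fixed.2.1]
      exact (Commute.mul_right h0 h0).eq
  have hy : L.el a10 * L.el (qel .z k .z .z .z) =
      L.el (r12k k) * L.el (qel .z k .z .z .z) * L.el a10 := by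
    rw [← L.el_mul ha (qel_det _ _ _ _ _), move10,
      L.el_mul (A3.det_mul (r12k_det _) (qel_det _ _ _ _ _)) ha, L.el_mul (r12k_det _) (qel_det _ _ _ _ _)]
  set a := L.el a10
  set b := L₂.el b32
  set y := L.el (qel .z k .z .z .z)
  show a * (b * y) = b * y * a
  calc a * (b * y) = (a * b * a⁻¹ * b⁻¹) * b * (a * y) := by group
    _ = L.el (r12k j) * b * (L.el (r12k k) * y * a) := by rw [hj, hy]
    _ = b * (L.el (r12k j) * L.el (r12k k)) * y * a := by
        rw [← hR j]; group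
    _ = b * y * a := by rw [hm, mul_one]

end Loc

end Cfsg.Agent.L43Three
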